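import Mathlib
import Cfsg.Agent.Lib.Helper55.OOG.Defs

/-!
# Project OOG (S2413): package [COMR]
-/

set_option autoImplicit false
open scoped Matrix

namespace Cfsg.Agent.Lib.Helper39.OOG

open Cfsg.Agent.Lib.Helper55.OOG

universe u

/-- [COMR] the commutator formula `[ρ_{u,a}, ρ_{u',b}] = ρ_{u', -B(a,b) u}`. -/
theorem pkgComr_of (hAlg : PkgAlg.{u}) (hConj : PkgConj.{u}) : PkgComr.{u} := by
  intro m F _ u u' a b hu hu' huu' hua hub hu'a hu'b σ τ hσ hτ
  have h1 : IsSieg (mat σ *ᵥ u') (mat σ *ᵥ b) (σ * τ * σ⁻¹) := hConj m F u' b σ τ hτ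
  have e1 : mat σ *ᵥ u' = u' := by
    rw [hσ u', hu'a, B_comm u' u, huu']
    simp
  have e2 : mat σ *ᵥ b = b - B b a • u := by
    rw [hσ b, B_comm b u, hub]
    simp
  rw [e1, e2] at h1
  obtain ⟨-, hb, hc, -, -, -⟩ := hAlg m F u' hu'
  have h3 : IsSieg u' (-b) τ⁻¹ := hc b τ hu'b hτ
  have hB1 : B u' (b - B b a • u) = 0 := by
    rw [B_sub_right, B_smul_right, hu'b, B_comm u' u, huu']
    simp
  have hB2 : B u' (-b) = 0 := by
    rw [B_neg_right, hu'b]
    simp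
  have h4 := hb _ _ _ _ hB1 hB2 h1 h3
  have e3 : b - B b a • u + -b = (-B a b) • u := by
    rw [B_comm b a]
    module
  rw [e3] at h4
  exact h4

end Cfsg.Agent.Lib.Helper39.OOG
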