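import Mathlib
import Cfsg.Agent.Lib.Helper55.OOG.Defs

/-!
# Project OOG (S2413): package [LONG]
-/

set_option autoImplicit false
open scoped Matrix

namespace Cfsg.Agent.Lib.Helper39.OOG

open Cfsg.Agent.Lib.Helper55.OOG

universe u

/-- The commutator of two short root elements is a long root element. -/
theorem long_aux (hE : PkgExist.{u}) (hC : PkgComr.{u}) {m : ℕ} {F : Type u} [Field F]
    (h2 : (2 : F) ≠ 0) (K : Subgroup ↥(Iso m F)) (u u' : Vec m F)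
    (hu : QF m F u = 0) (hu' : QF m F u' = 0) (huu' : B u u' = 0)
    (huT : B u (T0 : Vec m F) = 0) (hu'T : B u' (T0 : Vec m F) = 0)
    (hKu : ∀ (x : F) (σ : ↥(Iso m F)), IsSieg u (x • T0) σ → σ ∈ K)
    (hKu' : ∀ (x : F) (σ : ↥(Iso m F)), IsSieg u' (x • T0) σ → σ ∈ K)
    (c : F) (σ : ↥(Iso m F)) (hσ : IsSieg u' (c • u) σ) : σ ∈ K := by
  have hBa : B u ((-c / 2) • (T0 : Vec m F)) = 0 := by rw [B_smul_right, huT, mul_zero]
  have hBb : B u ((1 : F) • (T0 : Vec m F)) = 0 := by rw [B_smul_right, huT, mul_zero]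
  have hBa' : B u' ((-c / 2) • (T0 : Vec m F)) = 0 := by rw [B_smul_right, hu'T, mul_zero]
  have hBb' : B u' ((1 : F) • (T0 : Vec m F)) = 0 := by rw [B_smul_right, hu'T, mul_zero]
  obtain ⟨σ₁, hσ₁⟩ := hE m F u ((-c / 2) • T0) hu hBa
  obtain ⟨τ₁, hτ₁⟩ := hE m F u' ((1 : F) • T0) hu' hBb'
  have h := hC m F u u' _ _ hu hu' huu' hBa hBb hBa' hBb' σ₁ τ₁ hσ₁ hτ₁
  have e : (-B ((-c / 2) • (T0 : Vec m F)) ((1 : F) • (T0 : Vec m F))) = c := by
    rw [B_smul_left, B_smul_right, B_T0_T0]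
    field_simp
  rw [e] at h
  rw [isSieg_ext hσ h]
  have h1 := hKu _ _ hσ₁
  have h3 := hKu' _ _ hτ₁
  exact K.mul_mem (K.mul_mem (K.mul_mem h1 h3) (K.inv_mem h1)) (K.inv_mem h3)

/-- [LONG] the short root elements give the long root elements (commutators). -/
theorem pkgLong_of (hE : PkgExist.{u}) (hC : PkgComr.{u}) : PkgLong.{u} := by
  intro m F _ h2 K hS i j hij c σ
  have hEE : B (E i : Vec m F) (E j) = 0 := B_E_E i j
  have hFE : B (Fv i : Vec m F) (E j) = 0 := by rw [B_Fv_E, if_neg hij]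
  have hEF : B (E i : Vec m F) (Fv j) = 0 := by rw [B_E_Fv, if_neg hij]
  have hFF : B (Fv i : Vec m F) (Fv j) = 0 := B_Fv_Fv i j
  refine ⟨?_, ?_, ?_, ?_⟩
  · exact long_aux hE hC h2 K (E i) (E j) (Q_E i) (Q_E j) hEE (B_E_T0 i) (B_E_T0 j)
      (fun x σ h => (hS i x σ).1 h) (fun x σ h => (hS j x σ).1 h) c σ
  · exact long_aux hE hC h2 K (Fv i) (E j) (Q_Fv i) (Q_E j) hFE (B_Fv_T0 i) (B_E_T0 j)
      (fun x σ h => (hS i x σ).2 h) (fun x σ h => (hS j x σ).1 h) c σ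
  · exact long_aux hE hC h2 K (E i) (Fv j) (Q_E i) (Q_Fv j) hEF (B_E_T0 i) (B_Fv_T0 j)
      (fun x σ h => (hS i x σ).1 h) (fun x σ h => (hS j x σ).2 h) c σ
  · exact long_aux hE hC h2 K (Fv i) (Fv j) (Q_Fv i) (Q_Fv j) hFF (B_Fv_T0 i) (B_Fv_T0 j)
      (fun x σ h => (hS i x σ).2 h) (fun x σ h => (hS j x σ).2 h) c σ

end Cfsg.Agent.Lib.Helper39.OOG
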